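import Groth.Agent.SpecSeq.AcyclicQuasiIso
import Mathlib.CategoryTheory.Abelian.Injective.Resolution
import Mathlib.CategoryTheory.Abelian.RightDerived

/-!
# `R^n (R ⋙ G) ≅ R ⋙ R^n G` naturally, for `R` exact sending injectives to `G`-acyclics
-/

set_option autoImplicit false
set_option backward.isDefEq.respectTransparency false
set_option linter.all false

universe v v' v'' u u' u''

open CategoryTheory CategoryTheory.Limits

namespace Groth.Agent.EtStalkLib

section

variable {C : Type u} [Category.{v} C] [Abelian C] {X Y : C}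
variable {K : CochainComplex C ℕ} {a : X ⟶ K.X 0} {w : a ≫ K.d 0 1 = 0}

theorem exists_desc [Mono a] (h0 : (ShortComplex.mk a (K.d 0 1) w).Exact)
    (hs : ∀ n, (ShortComplex.mk (K.d n (n + 1)) (K.d (n + 1) (n + 2)) (K.d_comp_d _ _ _)).Exact)
    (g : X ⟶ Y) (I : InjectiveResolution Y) :
    ∃ φ : K ⟶ I.cocomplex, a ≫ φ.f 0 = g ≫ I.ι.f 0 := by
  let f0 : K.X 0 ⟶ I.cocomplex.X 0 := Injective.factorThru (g ≫ I.ι.f 0) a
  have hf0 : a ≫ f0 = g ≫ I.ι.f 0 := Injective.comp_factorThru _ _
  let f1 : K.X 1 ⟶ I.cocomplex.X 1 := h0.descToInjective (f0 ≫ I.cocomplex.d 0 1) (by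
    dsimp
    rw [← Category.assoc, hf0, Category.assoc, I.ι_f_zero_comp_complex_d, comp_zero])
  have hf1 : K.d 0 1 ≫ f1 = f0 ≫ I.cocomplex.d 0 1 := h0.comp_descToInjective _ _
  exact ⟨CochainComplex.mkHom K I.cocomplex f0 f1 hf1.symm fun n ⟨g, g', w'⟩ =>
    ⟨(hs n).descToInjective (g' ≫ I.cocomplex.d (n + 1) (n + 2)) (by
        dsimp
        rw [← Category.assoc, ← w', Category.assoc, HomologicalComplex.d_comp_d, comp_zero]),
      ((hs n).comp_descToInjective _ _).symm⟩, hf0⟩

theorem nonempty_homotopy_zero [Mono a] (h0 : (ShortComplex.mk a (K.d 0 1) w).Exact)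
    (hs : ∀ n, (ShortComplex.mk (K.d n (n + 1)) (K.d (n + 1) (n + 2)) (K.d_comp_d _ _ _)).Exact)
    (I : InjectiveResolution Y) (f : K ⟶ I.cocomplex) (hf : a ≫ f.f 0 = 0) :
    Nonempty (Homotopy f 0) := by
  let z0 : K.X 1 ⟶ I.cocomplex.X 0 := h0.descToInjective (f.f 0) hf
  have hz0 : K.d 0 1 ≫ z0 = f.f 0 := h0.comp_descToInjective _ _
  let z1 : K.X 2 ⟶ I.cocomplex.X 1 := (hs 0).descToInjective (f.f 1 - z0 ≫ I.cocomplex.d 0 1) (by
    dsimp
    rw [Preadditive.comp_sub, ← Category.assoc, hz0, HomologicalComplex.Hom.comm, sub_self])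
  have hz1 : K.d 1 2 ≫ z1 = f.f 1 - z0 ≫ I.cocomplex.d 0 1 := (hs 0).comp_descToInjective _ _
  exact ⟨Homotopy.mkCoinductive _ z0 (by simp [hz0]) z1 (by simp [hz1]) fun n ⟨g, g', w'⟩ =>
    ⟨(hs (n + 1)).descToInjective (f.f (n + 2) - g' ≫ I.cocomplex.d _ _) (by
      dsimp
      rw [Preadditive.comp_sub, ← HomologicalComplex.Hom.comm]
      simp only [w', Preadditive.add_comp, Category.assoc, HomologicalComplex.d_comp_d, comp_zero,
        zero_add, add_zero, sub_self]), by
      rw [(hs (n + 1)).comp_descToInjective]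
      abel⟩⟩

theorem quasiIso_desc [Mono a] (h0 : (ShortComplex.mk a (K.d 0 1) w).Exact)
    (hs : ∀ n, (ShortComplex.mk (K.d n (n + 1)) (K.d (n + 1) (n + 2)) (K.d_comp_d _ _ _)).Exact)
    (I : InjectiveResolution X) (φ : K ⟶ I.cocomplex) (hφ : a ≫ φ.f 0 = I.ι.f 0) : QuasiIso φ := by
  let ιK : (CochainComplex.single₀ C).obj X ⟶ K := (CochainComplex.fromSingle₀Equiv _ _).symm ⟨a, w⟩
  have hι : QuasiIso ιK := ⟨fun n => by
    cases n with
    | zero =>
      rw [CochainComplex.quasiIsoAt₀_iff, ShortComplex.quasiIso_iff_of_zeros]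
      · refine (ShortComplex.exact_and_mono_f_iff_of_iso ?_).2 ⟨h0, ‹Mono a›⟩
        exact ShortComplex.isoMk (Iso.refl _) (Iso.refl _) (Iso.refl _)
          ((Category.id_comp _).trans (((CochainComplex.fromSingle₀Equiv_symm_apply_f_zero a w).symm).trans (Category.comp_id _).symm))
          ((Category.id_comp _).trans (Category.comp_id _).symm)
      all_goals simp
    | succ n =>
      rw [quasiIsoAt_iff_exactAt _ _ (CochainComplex.exactAt_succ_single_obj _ _)]
      exact (HomologicalComplex.exactAt_iff' _ n (n + 1) (n + 2) (by simp) (by simp)).2 (hs n)⟩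
  have hcomp : ιK ≫ φ = I.ι := by
    apply HomologicalComplex.from_single_hom_ext
    simp only [HomologicalComplex.comp_f]
    exact (congrArg (· ≫ φ.f 0) (CochainComplex.fromSingle₀Equiv_symm_apply_f_zero a w)).trans hφ
  haveI : QuasiIso (ιK ≫ φ) := by rw [hcomp]; infer_instance
  exact quasiIso_of_comp_left ιK φ

end

section

variable {A : Type u} [Category.{v} A] [Abelian A] [HasInjectiveResolutions A]
  {B : Type u'} [Category.{v'} B] [Abelian B] [HasInjectiveResolutions B]
  {D : Type u''} [Category.{v''} D] [Abelian D]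
  (R : A ⥤ B) [R.Additive] [PreservesFiniteLimits R] [PreservesFiniteColimits R]
  (G : B ⥤ D) [G.Additive] [PreservesFiniteLimits G]

/-- `R^n (R ⋙ G) ≅ R ⋙ R^n G` for `R` exact sending injectives to `G`-acyclic objects. -/
theorem nonempty_rightDerived_exactAcyclicComp_iso
    (hR : ∀ (I : A), Injective I → ∀ q, IsZero ((G.rightDerived (q + 1)).obj (R.obj I))) (n : ℕ) :
    Nonempty ((R ⋙ G).rightDerived n ≅ R ⋙ G.rightDerived n) := by
  let K : A → CochainComplex B ℕ := fun F => (R.mapHomologicalComplex _).obj (injectiveResolution F).cocomplex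
  let a : ∀ F, R.obj F ⟶ (K F).X 0 := fun F => R.map ((injectiveResolution F).ι.f 0)
  have w : ∀ F, a F ≫ (K F).d 0 1 = 0 := fun F =>
    ((R.map_comp _ _).symm.trans (congrArg R.map (injectiveResolution F).ι_f_zero_comp_complex_d)).trans
      (R.map_zero _ _)
  have h0 : ∀ F, (ShortComplex.mk (a F) ((K F).d 0 1) (w F)).Exact := fun F =>
    (injectiveResolution F).exact₀.map R
  have hs : ∀ F n, (ShortComplex.mk ((K F).d n (n + 1)) ((K F).d (n + 1) (n + 2))
      ((K F).d_comp_d _ _ _)).Exact := fun F n => ((injectiveResolution F).exact_succ n).map R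
  have hm : ∀ F, Mono (a F) := fun F => inferInstance
  choose φ hφ using fun F => exists_desc (h0 F) (hs F) (𝟙 (R.obj F)) (injectiveResolution (R.obj F))
  have hq : ∀ F, QuasiIso ((G.mapHomologicalComplex _).map (φ F)) := fun F => by
    haveI := quasiIso_desc (h0 F) (hs F) (injectiveResolution (R.obj F)) (φ F)
      ((hφ F).trans (Category.id_comp _))
    refine SpecSeq.quasiIso_map_of_acyclic G (φ F) (fun i q hq => ?_) (fun i q hq => ?_)
    · obtain ⟨k, rfl⟩ : ∃ k, q = k + 1 := ⟨q - 1, by omega⟩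
      exact hR _ ((injectiveResolution F).injective i) k
    · obtain ⟨k, rfl⟩ : ∃ k, q = k + 1 := ⟨q - 1, by omega⟩
      exact Functor.isZero_rightDerived_obj_injective_succ G k _
  refine ⟨NatIso.ofComponents (fun F => (injectiveResolution F).isoRightDerivedObj (R ⋙ G) n ≪≫
    (haveI := hq F
     asIso (HomologicalComplex.homologyMap ((G.mapHomologicalComplex _).map (φ F)) n)) ≪≫
    ((injectiveResolution (R.obj F)).isoRightDerivedObj G n).symm) (fun {F F'} g => ?_)⟩
  let d := InjectiveResolution.desc g (injectiveResolution F') (injectiveResolution F)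
  let d' := InjectiveResolution.desc (R.map g) (injectiveResolution (R.obj F')) (injectiveResolution (R.obj F))
  have h₁ := InjectiveResolution.isoRightDerivedObj_hom_naturality g (injectiveResolution F)
    (injectiveResolution F') d (InjectiveResolution.desc_commutes_zero _ _ _) (R ⋙ G) n
  have h₂ := InjectiveResolution.isoRightDerivedObj_inv_naturality (R.map g)
    (injectiveResolution (R.obj F)) (injectiveResolution (R.obj F')) d'
    (InjectiveResolution.desc_commutes_zero _ _ _) G n
  have hsq : a F ≫ ((R.mapHomologicalComplex _).map d ≫ φ F').f 0 = a F ≫ (φ F ≫ d').f 0 := by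
    have e1 : a F ≫ R.map (d.f 0) = R.map g ≫ a F' :=
      (R.map_comp _ _).symm.trans ((congrArg R.map (InjectiveResolution.desc_commutes_zero _ _ _)).trans
        (R.map_comp _ _))
    show a F ≫ R.map (d.f 0) ≫ (φ F').f 0 = a F ≫ (φ F).f 0 ≫ d'.f 0
    rw [reassoc_of% e1, hφ, Category.id_comp, reassoc_of% (hφ F), InjectiveResolution.desc_commutes_zero]
  obtain ⟨H⟩ := nonempty_homotopy_zero (h0 F) (hs F) (injectiveResolution (R.obj F'))
    ((R.mapHomologicalComplex _).map d ≫ φ F' - φ F ≫ d') (by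
      rw [HomologicalComplex.sub_f_apply, Preadditive.comp_sub, hsq, sub_self])
  have heq := (G.mapHomotopy (Homotopy.equivSubZero.symm H)).homologyMap_eq n
  rw [G.mapHomologicalComplex _ |>.map_comp, G.mapHomologicalComplex _ |>.map_comp,
    HomologicalComplex.homologyMap_comp, HomologicalComplex.homologyMap_comp] at heq
  change _ ≫ (_ ≫ _ ≫ _) = (_ ≫ _ ≫ _) ≫ _
  rw [reassoc_of% h₁, Category.assoc, Category.assoc]
  congr 1
  refine Eq.trans ?_ (congrArg (fun m => _ ≫ m) h₂.symm)
  simp only [← Category.assoc]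
  congr 1

end

end Groth.Agent.EtStalkLib
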