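import Groth.Agent.EtStalkLib.Degree0
import Groth.Agent.EtStalkLib.AcyclicComp
import Groth.Agent.Et18.ExtZero
import Groth.Agent.SiteCoh.Derived
import Groth.Agent.SiteCoh.ExtResolution

/-!
# Stalks of higher direct images are cohomology of the strict localization
-/

set_option autoImplicit false
set_option linter.all false
set_option backward.isDefEq.respectTransparency.types false
set_option backward.isDefEq.respectTransparency false
set_option maxHeartbeats 1000000

universe u

open CategoryTheory Limits AlgebraicGeometry Opposite IsLocalRing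
open CategoryTheory.Abelian (Ext)
open Groth.Agent.EtLimit

namespace Groth.Agent.EtStalkLib

theorem secOf_post {Y : Scheme.{u}} {A B : EtCoh.Ab Y} (g : EtCoh.const Y ℤ ⟶ A) (φ : A ⟶ B) :
    secOf (g ≫ φ) = φ.hom.app (op (EtCoh.top Y)) (secOf g) := by
  simp only [secOf, Adjunction.homEquiv_naturality_right]
  rfl

theorem secOf_add {Y : Scheme.{u}} {A : EtCoh.Ab Y} (g g' : EtCoh.const Y ℤ ⟶ A) :
    secOf (g + g') = secOf g + secOf g' := by
  simp only [secOf, Adjunction.homEquiv_unit, Functor.map_add, Preadditive.comp_add]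
  rfl

/-- The index of global sections. -/
noncomputable abbrev pointDiag (Y : Scheme.{u}) : Discrete PUnit.{1} ⥤ EtCoh.Ab Y :=
  (Functor.const _).obj (EtCoh.const Y ℤ)

/-- Global sections as homomorphisms from the constant sheaf. -/
noncomputable def gsecIso (Y : Scheme.{u}) :
    SiteCoh.homGroups (pointDiag Y) ⋙ (evaluation _ AddCommGrpCat.{u + 1}).obj (op ⟨PUnit.unit⟩) ≅ EtCore.gsec Y :=
  NatIso.ofComponents
    (fun F => AddEquiv.toAddCommGrpIso
      ({ Equiv.ofBijective (fun g : EtCoh.const Y ℤ ⟶ F => secOf g)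
          ⟨fun a b h => secOf_injective h, fun s => exists_secOf s⟩ with
        map_add' := secOf_add } : (EtCoh.const Y ℤ ⟶ F) ≃+ F.obj.obj (op (EtCoh.top Y))))
    (fun {F G} φ => ConcreteCategory.hom_ext _ _ fun g => secOf_post g φ)

instance gsec_additive (Y : Scheme.{u}) : (EtCore.gsec Y).Additive :=
  (EtCore.constAdj Y).right_adjoint_additive

instance gsec_preservesFiniteLimits (Y : Scheme.{u}) : PreservesFiniteLimits (EtCore.gsec Y) :=
  have : PreservesLimitsOfSize.{0, 0} (EtCore.gsec Y) := (EtCore.constAdj Y).rightAdjoint_preservesLimits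
  PreservesLimitsOfSize.preservesFiniteLimits _

/-- Cohomology is the derived functor of global sections. -/
noncomputable def gsecDerivedIso (Y : Scheme.{u}) (n : ℕ) :
    (EtCore.gsec Y).rightDerived n ≅ EtCoh.HF Y n :=
  SiteCoh.rightDerivedCongr (gsecIso Y).symm n ≪≫
    SiteCoh.rightDerivedCompExactIso _ _ n ≪≫
    Functor.isoWhiskerRight (SiteCoh.rightDerivedHomGroupsIso (pointDiag Y) n) _ ≪≫
    NatIso.ofComponents (fun F => Iso.refl _) (fun {F G} φ => by
      refine (Category.comp_id _).trans (Eq.trans ?_ (Category.id_comp _).symm)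
      rfl)

variable {X S : Scheme.{u}}

theorem injective_pull_of_etale (U : X.Etale) (I : EtCoh.Ab X) [Injective I] :
    Injective ((EtCoh.pull U.hom).obj I) := by
  haveI : AlgebraicGeometry.Etale U.hom := U.prop
  haveI := Et18.jCont U.hom
  haveI : (EtShriek.extZero U.hom).PreservesMonomorphisms := inferInstance
  haveI : (EtShriek.restrAlong U.hom).PreservesInjectiveObjects :=
    Functor.preservesInjectiveObjects_of_adjunction_of_preservesMonomorphisms (EtShriek.extZeroAdj U.hom)
  exact Injective.of_iso ((Et18.pullRestrIso U.hom).app I).symm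
    ((EtShriek.restrAlong U.hom).injective_obj_of_injective ‹_›)

variable (f : X ⟶ S) [QuasiCompact f] [QuasiSeparated f] (s : S) (R : Type u) [CommRing R] [IsLocalRing R]
  [Algebra (S.presheaf.stalk s) R] [IsSepClosed (ResidueField R)]
  [IsLocalHom (algebraMap (S.presheaf.stalk s) R)] [Hensel.IsStrictHenselization (S.presheaf.stalk s) R]

theorem subsingleton_H_pull_injective (I : EtCoh.Ab X) [Injective I] (n : ℕ) :
    Subsingleton (Ext.{u + 1} (EtCoh.const (pullback f (Hens2.specOf S s R)) ℤ)
      ((EtCoh.pull (gproj f s R)).obj I) (n + 1)) := by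
  obtain ⟨α, _, _, _, T, v, hv, haff, hqc, hqs, ⟨hlim⟩, -⟩ := exists_limit_data f s R
  let Ys : αᵒᵖ ⥤ Scheme.{u} := (T ⋙ EtCoh.bc f) ⋙ Scheme.Etale.forget X ⋙ CategoryTheory.Over.forget X
  let q : ∀ j : α, Ys.obj (op j) ⟶ X := fun j => ((EtCoh.bc f).obj (T.obj (op j))).hom
  have hq : ∀ ⦃i j : α⦄ (h : i ≤ j), Ys.map (homOfLE h).op ≫ q i = q j := fun i j h =>
    MorphismProperty.Over.w ((EtCoh.bc f).map (T.map (homOfLE h).op))
  let c : Cone Ys := Cone.mk (pullback f (Hens2.specOf S s R))
    { app := fun j => sigBar f s R (T.obj j) (v j)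
      naturality := fun i j h => (Category.id_comp _).trans
        ((congrArg (sigBar f s R (T.obj j)) (hv h)).symm.trans (sigBar_map f s R (T.map h) (v i)).symm) }
  haveI : ∀ ⦃a b : αᵒᵖ⦄ (h : a ⟶ b), IsAffineHom (Ys.map h) := haff
  haveI : ∀ a, CompactSpace ↥(Ys.obj a) := hqc
  haveI : ∀ a, QuasiSeparatedSpace ↥(Ys.obj a) := hqs
  haveI : ∀ ⦃a b : αᵒᵖ⦄ (h : a ⟶ b), PreservesFiniteLimits (EtCoh.pull (Ys.map h)) := fun a b h => inferInstance
  haveI : ∀ a, PreservesFiniteLimits (EtCoh.pull (c.π.app a)) := fun a => inferInstance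
  have key := base_limit c q hq (gproj f s R) (fun j => sigBar_hom f s R (T.obj (op j)) (v (op j))) I hlim (n + 1)
  refine subsingleton_of_forall_eq 0 fun ξ => ?_
  obtain ⟨j, ξj, rfl⟩ := key.1 ξ
  haveI : Injective ((EtCoh.pull (q j)).obj I) := injective_pull_of_etale ((EtCoh.bc f).obj (T.obj (op j))) I
  rw [Ext.eq_zero_of_injective ξj, map_zero]

/-- Degree zero. -/
noncomputable def thetaIso :
    EtCoh.push f ⋙ EtCoh.stalk (Hens2.geomPt S s R) ≅
      EtCoh.pull (gproj f s R) ⋙ EtCore.gsec (pullback f (Hens2.specOf S s R)) :=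
  NatIso.ofComponents (fun F =>
    haveI : IsIso (theta f s R F) := (ConcreteCategory.isIso_iff_bijective _).mpr (bijective_theta f s R F)
    asIso (theta f s R F)) (fun φ => theta_nat f s R φ)

theorem nonempty_stalk_Rpush_iso (n : ℕ) :
    Nonempty (EtCoh.Rpush f n ⋙ EtCoh.stalk (Hens2.geomPt S s R) ≅
      EtCoh.pull (pullback.fst f (Hens2.specOf S s R)) ⋙ EtCoh.HF (pullback f (Hens2.specOf S s R)) n) := by
  haveI : (EtCoh.stalk (Hens2.geomPt S s R)).Additive := Functor.additive_of_preserves_binary_products _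
  haveI : PreservesFiniteColimits (EtCoh.stalk (Hens2.geomPt S s R)) :=
    have hz : PreservesColimitsOfSize.{0, 0} (EtCoh.stalk (Hens2.geomPt S s R)) := inferInstance
    PreservesColimitsOfSize.preservesFiniteColimits _
  obtain ⟨e⟩ := nonempty_rightDerived_exactAcyclicComp_iso (EtCoh.pull (gproj f s R))
    (EtCore.gsec (pullback f (Hens2.specOf S s R))) (fun I _ q => by
      haveI := subsingleton_H_pull_injective f s R I q
      refine IsZero.of_iso ?_ ((gsecDerivedIso _ (q + 1)).app _)
      haveI : Subsingleton ((EtCoh.HF (pullback f (Hens2.specOf S s R)) (q + 1)).obj ((EtCoh.pull (gproj f s R)).obj I)) :=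
        subsingleton_H_pull_injective f s R I q
      exact AddCommGrpCat.isZero_of_subsingleton _) n
  exact ⟨(SiteCoh.rightDerivedCompExactIso (EtCoh.push f) (EtCoh.stalk (Hens2.geomPt S s R)) n).symm ≪≫
    SiteCoh.rightDerivedCongr (thetaIso f s R) n ≪≫ e ≪≫
    Functor.isoWhiskerLeft _ (gsecDerivedIso _ n)⟩

end Groth.Agent.EtStalkLib
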