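import Groth.Agent.Et18.SHull
import Groth.Prelude.Def_EtBase
import Groth.Prelude.Def_Hens2
import Mathlib.CategoryTheory.Presentable.Directed
import Mathlib.AlgebraicGeometry.Morphisms.FormallyUnramified

/-!
# A strict localization as a cofiltered limit of affine etale neighbourhoods
-/

set_option autoImplicit false
set_option linter.all false
set_option backward.isDefEq.respectTransparency.types false
set_option backward.isDefEq.respectTransparency false

universe u

open CategoryTheory Limits AlgebraicGeometry Opposite IsLocalRing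

namespace Groth.Agent.EtStalkLib

open HenselLib

variable (S : Scheme.{u}) (s : S) (R : Type u) [CommRing R] [IsLocalRing R]
  [Algebra (S.presheaf.stalk s) R]

/-- Two morphisms from a local scheme to an etale scheme agreeing at the closed point agree. -/
theorem eq_of_residue_eq (V : S.Etale) (a b : Spec (CommRingCat.of R) ⟶ V.left)
    (ha : a ≫ V.hom = Hens2.specOf S s R) (hb : b ≫ V.hom = Hens2.specOf S s R)
    (h : Spec.map (CommRingCat.ofHom (residue R)) ≫ a = Spec.map (CommRingCat.ofHom (residue R)) ≫ b) :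
    a = b := by
  haveI : AlgebraicGeometry.Etale V.hom := V.prop
  let res := Spec.map (CommRingCat.ofHom (residue R))
  let E := pullback.fst (pullback.lift a b (ha.trans hb.symm)) (pullback.diagonal V.hom)
  haveI : IsOpenImmersion E := inferInstance
  have hE : E ≫ a = E ≫ b := by
    have := pullback.condition (f := pullback.lift a b (ha.trans hb.symm)) (g := pullback.diagonal V.hom)
    have h1 := congrArg (· ≫ pullback.fst V.hom V.hom) this
    have h2 := congrArg (· ≫ pullback.snd V.hom V.hom) this
    simp [Category.assoc] at h1 h2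
    exact h1.trans h2.symm
  let l := pullback.lift (f := pullback.lift a b (ha.trans hb.symm)) (g := pullback.diagonal V.hom)
    res (res ≫ a) (by
      apply pullback.hom_ext
      · simp
      · simp only [Category.assoc, pullback.lift_snd, pullback.diagonal_snd, Category.comp_id]
        exact h.symm)
  haveI : IsLocalHom (CommRingCat.ofHom (residue R)).hom := inferInstanceAs (IsLocalHom (residue R))
  have hcl : res default = closedPoint R :=
    (congrArg res (Subsingleton.elim (α := PrimeSpectrum (ResidueField R)) _ (closedPoint _))).trans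
      (Spec_closedPoint (f := CommRingCat.ofHom (residue R)))
  have htop : E.opensRange = ⊤ := by
    refine top_le_iff.mp fun x _ => ?_
    refine (specializes_closedPoint x).mem_open E.opensRange.isOpen ⟨l default, ?_⟩
    show (l ≫ E) default = closedPoint R
    rw [pullback.lift_fst]
    exact hcl
  haveI : IsIso E := (isIso_iff_isOpenImmersion_and_epi_base E).mpr ⟨inferInstance,
    (TopCat.epi_iff_surjective _).mpr fun x =>
      (show x ∈ E.opensRange by rw [htop]; trivial)⟩
  exact (cancel_epi E).mp hE

theorem geomPt_default [IsLocalHom (algebraMap (S.presheaf.stalk s) R)] :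
    (Hens2.geomPt S s R) default = s := by
  haveI : IsLocalHom (CommRingCat.ofHom (residue R)).hom := inferInstanceAs (IsLocalHom (residue R))
  haveI : IsLocalHom (CommRingCat.ofHom (algebraMap (S.presheaf.stalk s) R)).hom :=
    inferInstanceAs (IsLocalHom (algebraMap (S.presheaf.stalk s) R))
  have h1 : (Spec.map (CommRingCat.ofHom (residue R))) default = closedPoint R :=
    (congrArg (Spec.map (CommRingCat.ofHom (residue R)))
      (Subsingleton.elim (α := PrimeSpectrum (ResidueField R)) _ (closedPoint _))).trans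
      (Spec_closedPoint (f := CommRingCat.ofHom (residue R)))
  have h2 : (Spec.map (CommRingCat.ofHom (algebraMap (S.presheaf.stalk s) R))) (closedPoint R) =
      closedPoint (S.presheaf.stalk s) :=
    Spec_closedPoint (f := CommRingCat.ofHom (algebraMap (S.presheaf.stalk s) R))
  exact (congrArg (fun z => S.fromSpecStalk s ((Spec.map (CommRingCat.ofHom
    (algebraMap (S.presheaf.stalk s) R))) z)) h1).trans
    ((congrArg (S.fromSpecStalk s) h2).trans S.fromSpecStalk_closedPoint)

set_option maxHeartbeats 1000000 in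
/-- An affine etale system with limit the strict localization, cofinal among neighbourhoods. -/
theorem exists_system [IsSepClosed (ResidueField R)] [IsLocalHom (algebraMap (S.presheaf.stalk s) R)]
    [Hensel.IsStrictHenselization (S.presheaf.stalk s) R] :
    ∃ (α : Type u) (_ : PartialOrder α) (_ : IsDirected α (· ≤ ·)) (_ : Nonempty α)
      (T : αᵒᵖ ⥤ S.Etale) (σ : ∀ j : αᵒᵖ, Spec (CommRingCat.of R) ⟶ (T.obj j).left)
      (_ : ∀ j, σ j ≫ (T.obj j).hom = Hens2.specOf S s R)
      (hσ : ∀ ⦃i j : αᵒᵖ⦄ (h : i ⟶ j), σ i ≫ (T.map h).left = σ j),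
      (∀ j, IsAffine (T.obj j).left) ∧
      Nonempty (IsLimit (Cone.mk (F := T ⋙ Scheme.Etale.forget S ⋙ CategoryTheory.Over.forget S)
        (Spec (CommRingCat.of R))
        { app := σ, naturality := fun i j h => (Category.id_comp _).trans (hσ h).symm })) ∧
      ∀ (V : S.Etale) (v : (Scheme.pointSmallEtale (Hens2.geomPt S s R)).fiber.obj V),
        ∃ (j : αᵒᵖ) (a : T.obj j ⟶ V),
          Spec.map (CommRingCat.ofHom (residue R)) ≫ σ j ≫ a.left = v.left := by
  obtain ⟨W, hW, hsW, -⟩ := exists_isAffineOpen_mem_and_subset (X := S) (x := s) (U := ⊤) trivial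
  let A : Type u := Γ(S, W)
  let : Algebra A (S.presheaf.stalk s) := TopCat.Presheaf.algebra_section_stalk S.presheaf ⟨s, hsW⟩
  haveI := hW.isLocalization_stalk ⟨s, hsW⟩
  let : Algebra A R := ((algebraMap (S.presheaf.stalk s) R).comp (algebraMap A (S.presheaf.stalk s))).toAlgebra
  haveI : IsScalarTower A (S.presheaf.stalk s) R := IsScalarTower.of_algebraMap_eq fun _ => rfl
  let K := ResidueField R
  obtain ⟨e, he⟩ := Et18.SHull.exists_equiv (A := A) (R := R) (S.presheaf.stalk s)
    (hW.primeIdealOf ⟨s, hsW⟩).asIdeal.primeCompl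
  obtain ⟨α, _, _, _, Φ, _⟩ := IsFiltered.exists_directed (Pt A K)
  have hspec : Hens2.specOf S s R = Spec.map (CommRingCat.ofHom (algebraMap A R)) ≫ hW.fromSpec := by
    show Spec.map _ ≫ S.fromSpecStalk s = _
    rw [← hW.fromSpecStalk_eq_fromSpecStalk hsW]
    show Spec.map _ ≫ Spec.map (S.presheaf.germ W s hsW) ≫ hW.fromSpec = _
    rw [← Category.assoc, ← Spec.map_comp]
    rfl
  let mk : Pt A K → S.Etale := fun P =>
    haveI : AlgebraicGeometry.Etale (Spec.map (CommRingCat.ofHom (algebraMap A P.Ring))) :=
      (HasRingHomProperty.Spec_iff (P := @AlgebraicGeometry.Etale)).mpr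
        (RingHom.etale_algebraMap.mpr inferInstance)
    MorphismProperty.Over.mk ⊤ (Spec.map (CommRingCat.ofHom (algebraMap A P.Ring)) ≫ hW.fromSpec)
      (MorphismProperty.comp_mem _ _ _ inferInstance inferInstance)
  let T : αᵒᵖ ⥤ S.Etale :=
    { obj := fun j => mk (Φ.obj j.unop)
      map := fun {i j} h => MorphismProperty.Over.homMk (Spec.map (CommRingCat.ofHom (Φ.map h.unop).map.toRingHom))
        (by
          show Spec.map _ ≫ Spec.map _ ≫ hW.fromSpec = Spec.map _ ≫ hW.fromSpec
          rw [← Category.assoc, ← Spec.map_comp]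
          congr 2
          exact CommRingCat.hom_ext (Φ.map h.unop).map.comp_algebraMap) trivial
      map_id := fun j => MorphismProperty.Over.Hom.ext (by
        show Spec.map _ = 𝟙 _
        rw [unop_id, Φ.map_id]
        exact Spec.map_id _)
      map_comp := fun {i j k} h h' => MorphismProperty.Over.Hom.ext (by
        show Spec.map _ = Spec.map _ ≫ Spec.map _
        rw [← Spec.map_comp, unop_comp, Φ.map_comp]
        rfl) }
  let σ : ∀ j : αᵒᵖ, Spec (CommRingCat.of R) ⟶ (T.obj j).left := fun j =>
    Spec.map (CommRingCat.ofHom (e.toAlgHom.comp (ι (Φ.obj j.unop))).toRingHom)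
  have hσ0 : ∀ j, σ j ≫ (T.obj j).hom = Hens2.specOf S s R := fun j => by
    show Spec.map _ ≫ Spec.map _ ≫ hW.fromSpec = _
    rw [hspec, ← Category.assoc, ← Spec.map_comp]
    congr 2
    exact CommRingCat.hom_ext (e.toAlgHom.comp (ι (Φ.obj j.unop))).comp_algebraMap
  have hσ : ∀ ⦃i j : αᵒᵖ⦄ (h : i ⟶ j), σ i ≫ (T.map h).left = σ j := fun i j h => by
    show Spec.map _ ≫ Spec.map _ = Spec.map _
    rw [← Spec.map_comp]
    congr 1
    exact CommRingCat.hom_ext (RingHom.ext fun x => congrArg e (ι_map (Φ.map h.unop) x))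
  refine ⟨α, inferInstance, inferInstance, inferInstance, T, σ, hσ0, hσ,
    fun j => inferInstanceAs (IsAffine (Spec (CommRingCat.of (Φ.obj j.unop).Ring))), ?_, ?_⟩
  · let c₀ : Cocone (hullDiagram A K) :=
      { pt := CommRingCat.of R
        ι :=
          { app := fun P => CommRingCat.ofHom (e.toAlgHom.comp (ι P)).toRingHom
            naturality := fun P Q g => CommRingCat.hom_ext (RingHom.ext fun x => congrArg e (ι_map g x)) } }
    have hc₀ : IsColimit c₀ :=
      IsColimit.ofIsoColimit (colimit.isColimit (hullDiagram A K))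
        (Cocone.ext e.toRingEquiv.toCommRingCatIso (fun P => rfl))
    have hc : IsColimit (c₀.whisker Φ) := (Functor.Final.isColimitWhiskerEquiv Φ c₀).symm hc₀
    exact ⟨IsLimit.ofIsoLimit (isLimitOfPreserves Scheme.Spec hc.op) (Cone.ext (Iso.refl _)
      (fun j => (Category.id_comp _).symm))⟩
  · intro V v
    haveI : AlgebraicGeometry.Etale V.hom := V.prop
    let v0 : Spec (CommRingCat.of K) ⟶ V.left := v.left
    have hv : v0 ≫ V.hom = Hens2.geomPt S s R := CategoryTheory.Over.w v
    have hpt : V.hom (v0 default) = s := by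
      show (v0 ≫ V.hom) default = s
      rw [hv]
      exact geomPt_default S s R
    obtain ⟨B, hB, hyB, hBW⟩ := exists_isAffineOpen_mem_and_subset
      (U := V.hom ⁻¹ᵁ W) (x := v0 default) (show V.hom (v0 default) ∈ W from hpt.symm ▸ hsW)
    have hle : B ≤ V.hom ⁻¹ᵁ W := hBW
    let C : Type u := Γ(V.left, B)
    let : Algebra A C := (V.hom.appLE W B hle).hom.toAlgebra
    haveI : Algebra.Etale A C :=
      RingHom.etale_algebraMap.mp (HasRingHomProperty.appLE @AlgebraicGeometry.Etale V.hom ‹_› ⟨W, hW⟩ ⟨B, hB⟩ hle)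
    have hrange : Set.range v0 ⊆ Set.range hB.fromSpec := by
      rintro _ ⟨a, rfl⟩
      rw [hB.range_fromSpec, Subsingleton.elim a default]
      exact hyB
    obtain ⟨p, hp⟩ := Spec.map_surjective (IsOpenImmersion.lift hB.fromSpec v0 hrange)
    have hpv : Spec.map p ≫ hB.fromSpec = v0 := by rw [hp, IsOpenImmersion.lift_fac]
    have hpA : V.hom.appLE W B hle ≫ p = CommRingCat.ofHom (algebraMap A K) := by
      apply Spec.map_injective
      rw [← cancel_mono hW.fromSpec, Spec.map_comp, Category.assoc,
        IsAffineOpen.SpecMap_appLE_fromSpec V.hom hW hB hle, reassoc_of% hpv, hv]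
      show Spec.map (CommRingCat.ofHom (residue R)) ≫ Hens2.specOf S s R = _
      rw [hspec, ← Category.assoc, ← Spec.map_comp]
      rfl
    let pA : C →ₐ[A] K := { p.hom with commutes' := fun a => congr($(hpA).hom a) }
    obtain ⟨P, eP, heP⟩ := Pt.exists_equiv C pA
    obtain ⟨Y⟩ := (inferInstance : IsConnected (StructuredArrow P Φ)).is_nonempty
    let ψ : C →ₐ[A] (Φ.obj Y.right).Ring := Y.hom.map.comp eP.symm.toAlgHom
    let a : T.obj (op Y.right) ⟶ V :=
      MorphismProperty.Over.homMk (Spec.map (CommRingCat.ofHom ψ.toRingHom) ≫ hB.fromSpec) (by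
        show (Spec.map _ ≫ hB.fromSpec) ≫ V.hom = Spec.map _ ≫ hW.fromSpec
        rw [Category.assoc, ← IsAffineOpen.SpecMap_appLE_fromSpec V.hom hW hB hle, ← Category.assoc,
          ← Spec.map_comp]
        congr 2
        exact CommRingCat.hom_ext ψ.comp_algebraMap) trivial
    refine ⟨op Y.right, a, ?_⟩
    show Spec.map _ ≫ Spec.map _ ≫ Spec.map _ ≫ hB.fromSpec = v0
    rw [← hpv, ← Category.assoc, ← Category.assoc, ← Spec.map_comp, ← Spec.map_comp]
    congr 2
    refine CommRingCat.hom_ext (RingHom.ext fun c => ?_)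
    show residue R (e (ι (Φ.obj Y.right) (Y.hom.map (eP.symm c)))) = p c
    rw [he, hullPt_ι, Pt.pt_map, ← heP, eP.apply_symm_apply]
    rfl

end Groth.Agent.EtStalkLib
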