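import Groth.Agent.EtStalkLib.EvSect
import Groth.Agent.EtStalkLib.StrictSystem
import Groth.Agent.EtLimit.Stage
import Groth.Agent.Et18.GermBasics
import Groth.Prelude.Def_EtCore

/-!
# The stalk of a direct image is the sections on the strict localization
-/

set_option autoImplicit false
set_option linter.all false
set_option backward.isDefEq.respectTransparency.types false
set_option backward.isDefEq.respectTransparency false
set_option maxHeartbeats 1000000

universe u

open CategoryTheory Limits AlgebraicGeometry Opposite IsLocalRing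
open CategoryTheory.Abelian (Ext)
open Groth.Agent.EtLimit

namespace Groth.Agent.EtStalkLib

variable {X S : Scheme.{u}} (f : X ⟶ S) (s : S) (R : Type u) [CommRing R] [IsLocalRing R]
  [Algebra (S.presheaf.stalk s) R] [IsSepClosed (ResidueField R)]

/-- The projection from the base change to the strict localization. -/
noncomputable abbrev gproj : pullback f (Hens2.specOf S s R) ⟶ X := pullback.fst f (Hens2.specOf S s R)

/-- The fibre functor at the geometric point. -/
noncomputable abbrev geoPt : GrothendieckTopology.Point.{u} S.smallEtaleTopology :=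
  Scheme.pointSmallEtale (Hens2.geomPt S s R)

variable [IsLocalHom (algebraMap (S.presheaf.stalk s) R)]
  [Hensel.IsStrictHenselization (S.presheaf.stalk s) R]

theorem exists_sig (V : S.Etale) (v : (geoPt s R).fiber.obj V) :
    ∃ σ : Spec (CommRingCat.of R) ⟶ V.left, σ ≫ V.hom = Hens2.specOf S s R ∧
      Spec.map (CommRingCat.ofHom (residue R)) ≫ σ = v.left := by
  obtain ⟨α, _, _, _, T, σ, hσ₀, hσ, -, -, hcof⟩ := exists_system S s R
  obtain ⟨j, a, ha⟩ := hcof V v
  exact ⟨σ j ≫ a.left, by rw [Category.assoc, MorphismProperty.Over.w a]; exact hσ₀ j, ha⟩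

/-- The lift of a neighbourhood to the strict localization. -/
noncomputable def sig (V : S.Etale) (v : (geoPt s R).fiber.obj V) : Spec (CommRingCat.of R) ⟶ V.left :=
  (exists_sig s R V v).choose

theorem sig_hom (V : S.Etale) (v : (geoPt s R).fiber.obj V) :
    sig s R V v ≫ V.hom = Hens2.specOf S s R :=
  (exists_sig s R V v).choose_spec.1

theorem sig_eq (V : S.Etale) (v : (geoPt s R).fiber.obj V) (σ : Spec (CommRingCat.of R) ⟶ V.left)
    (h₁ : σ ≫ V.hom = Hens2.specOf S s R) (h₂ : Spec.map (CommRingCat.ofHom (residue R)) ≫ σ = v.left) :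
    sig s R V v = σ :=
  eq_of_residue_eq S s R V _ _ (sig_hom s R V v) h₁ ((exists_sig s R V v).choose_spec.2.trans h₂.symm)

theorem sig_map {V V' : S.Etale} (a : V ⟶ V') (v : (geoPt s R).fiber.obj V) :
    sig s R V v ≫ a.left = sig s R V' ((geoPt s R).fiber.map a v) := by
  refine (sig_eq s R V' _ _ ?_ ?_).symm
  · rw [Category.assoc, MorphismProperty.Over.w a]; exact sig_hom s R V v
  · exact (Category.assoc _ _ _).symm.trans (congrArg (· ≫ a.left) (exists_sig s R V v).choose_spec.2)

/-- The lift on the total space. -/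
noncomputable def sigBar (V : S.Etale) (v : (geoPt s R).fiber.obj V) :
    pullback f (Hens2.specOf S s R) ⟶ ((EtCoh.bc f).obj V).left :=
  pullback.lift (pullback.snd f (Hens2.specOf S s R) ≫ sig s R V v) (gproj f s R) (by
    rw [Category.assoc]
    exact (congrArg (pullback.snd f (Hens2.specOf S s R) ≫ ·) (sig_hom s R V v)).trans pullback.condition.symm)

theorem sigBar_hom (V : S.Etale) (v : (geoPt s R).fiber.obj V) :
    sigBar f s R V v ≫ ((EtCoh.bc f).obj V).hom = gproj f s R :=
  pullback.lift_snd _ _ _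

theorem sigBar_fst (V : S.Etale) (v : (geoPt s R).fiber.obj V) :
    sigBar f s R V v ≫ pullback.fst V.hom f = pullback.snd f (Hens2.specOf S s R) ≫ sig s R V v :=
  pullback.lift_fst _ _ _

theorem sigBar_map {V V' : S.Etale} (a : V ⟶ V') (v : (geoPt s R).fiber.obj V) :
    sigBar f s R V v ≫ ((EtCoh.bc f).map a).left = sigBar f s R V' ((geoPt s R).fiber.map a v) := by
  refine pullback.hom_ext ?_ ?_
  · rw [Category.assoc, bcMap_fst, ← Category.assoc, sigBar_fst, Category.assoc, sig_map, sigBar_fst]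
  · rw [Category.assoc, bcMap_snd]
    exact (sigBar_hom f s R V v).trans (sigBar_hom f s R V' _).symm

/-- The comparison in degree zero. -/
noncomputable def theta (F : EtCoh.Ab X) :
    (EtCoh.stalk (Hens2.geomPt S s R)).obj ((EtCoh.push f).obj F) ⟶
      ((EtCoh.pull (gproj f s R)).obj F).obj.obj (op (EtCoh.top (pullback f (Hens2.specOf S s R)))) :=
  (geoPt s R).presheafFiberDesc (P := ((EtCoh.push f).obj F).obj)
    (fun V v => ev (gproj f s R) ((EtCoh.bc f).obj V) (sigBar f s R V v) (sigBar_hom f s R V v) F)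
    (fun V V' a v => ev_map (gproj f s R) ((EtCoh.bc f).map a) _ _ _ _ (sigBar_map f s R a v) F)

theorem theta_germ (F : EtCoh.Ab X) (V : S.Etale) (v : (geoPt s R).fiber.obj V) :
    (geoPt s R).toPresheafFiber V v ((EtCoh.push f).obj F).obj ≫ theta f s R F =
      ev (gproj f s R) ((EtCoh.bc f).obj V) (sigBar f s R V v) (sigBar_hom f s R V v) F :=
  GrothendieckTopology.Point.toPresheafFiber_presheafFiberDesc (geoPt s R) _ _ V v

theorem theta_nat {F G : EtCoh.Ab X} (φ : F ⟶ G) :
    (EtCoh.stalk (Hens2.geomPt S s R)).map ((EtCoh.push f).map φ) ≫ theta f s R G =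
      theta f s R F ≫ ((EtCoh.pull (gproj f s R)).map φ).hom.app (op (EtCoh.top _)) := by
  refine GrothendieckTopology.Point.presheafFiber_hom_ext _ fun V v => ?_
  have h1 := (geoPt s R).toPresheafFiber_naturality ((EtCoh.push f).map φ).hom V v
  refine (Category.assoc _ _ _).symm.trans ?_
  refine (congrArg (· ≫ theta f s R G) h1).trans ?_
  refine (Category.assoc _ _ _).trans ?_
  refine (congrArg (_ ≫ ·) (theta_germ f s R G V v)).trans ?_
  exact (ev_nat (gproj f s R) _ _ _ φ).symm.trans
    ((congrArg (· ≫ _) (theta_germ f s R F V v)).symm.trans (Category.assoc _ _ _))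

/-- The etale neighbourhoods form a system with limit the base change to the strict localization. -/
theorem exists_limit_data [QuasiCompact f] [QuasiSeparated f] :
    ∃ (α : Type u) (_ : PartialOrder α) (_ : IsDirected α (· ≤ ·)) (_ : Nonempty α)
      (T : αᵒᵖ ⥤ S.Etale) (v : ∀ j, (geoPt s R).fiber.obj (T.obj j))
      (hv : ∀ ⦃i j : αᵒᵖ⦄ (h : i ⟶ j), (geoPt s R).fiber.map (T.map h) (v i) = v j),
      (∀ ⦃a b : αᵒᵖ⦄ (h : a ⟶ b), IsAffineHom ((EtCoh.bc f).map (T.map h)).left) ∧
      (∀ a, CompactSpace ↥((EtCoh.bc f).obj (T.obj a)).left) ∧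
      (∀ a, QuasiSeparatedSpace ↥((EtCoh.bc f).obj (T.obj a)).left) ∧
      Nonempty (IsLimit (Cone.mk
        (F := (T ⋙ EtCoh.bc f) ⋙ Scheme.Etale.forget X ⋙ CategoryTheory.Over.forget X)
        (pullback f (Hens2.specOf S s R))
        { app := fun j => sigBar f s R (T.obj j) (v j)
          naturality := fun i j h => (Category.id_comp _).trans
            ((congrArg (sigBar f s R (T.obj j)) (hv h)).symm.trans (sigBar_map f s R (T.map h) (v i)).symm) })) ∧
      ∀ (V : S.Etale) (w : (geoPt s R).fiber.obj V),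
        ∃ (j : αᵒᵖ) (a : T.obj j ⟶ V), (geoPt s R).fiber.map a (v j) = w := by
  obtain ⟨α, _, _, _, T, σ, hσ₀, hσ, haff, ⟨hc⟩, hcof⟩ := exists_system S s R
  let v : ∀ j, (geoPt s R).fiber.obj (T.obj j) := fun j =>
    CategoryTheory.Over.homMk (Spec.map (CommRingCat.ofHom (residue R)) ≫ σ j) (by
      show (Spec.map (CommRingCat.ofHom (residue R)) ≫ σ j) ≫ (T.obj j).hom = Hens2.geomPt S s R
      rw [Category.assoc, hσ₀])
  have hv : ∀ ⦃i j : αᵒᵖ⦄ (h : i ⟶ j), (geoPt s R).fiber.map (T.map h) (v i) = v j := fun i j h =>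
    CategoryTheory.Over.OverMorphism.ext ((Category.assoc _ _ _).trans (congrArg _ (hσ h)))
  have hsig : ∀ j, sig s R (T.obj j) (v j) = σ j := fun j => sig_eq s R _ _ _ (hσ₀ j) rfl
  refine ⟨α, inferInstance, inferInstance, inferInstance, T, v, hv, fun a b h => ?_, fun a => ?_,
    fun a => ?_, ?_, fun V w => ?_⟩
  · haveI : IsAffine ((𝟭 Scheme.{u}).obj (T.obj a).left) := haff a
    haveI : IsAffine ((𝟭 Scheme.{u}).obj (T.obj b).left) := haff b
    haveI : IsAffineHom (T.map h).left := isAffineHom_of_isAffine _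
    exact MorphismProperty.of_isPullback (P := @IsAffineHom)
      (EtCoh.isPullback_bc_map f (T.map h)).flip inferInstance
  · haveI : IsAffine ((𝟭 Scheme.{u}).obj (T.obj a).left) := haff a
    exact QuasiCompact.compactSpace_of_compactSpace (pullback.fst (T.obj a).hom f)
  · haveI : IsAffine ((𝟭 Scheme.{u}).obj (T.obj a).left) := haff a
    exact quasiSeparatedSpace_of_quasiSeparated (pullback.fst (T.obj a).hom f)
  · refine ⟨{ lift := fun c => ?_, fac := fun c j => ?_, uniq := fun c m hm => ?_ }⟩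
    · let j₀ : αᵒᵖ := op (Classical.arbitrary α)
      let cT : Cone (T ⋙ Scheme.Etale.forget S ⋙ CategoryTheory.Over.forget S) :=
        { pt := c.pt
          π :=
            { app := fun j => c.π.app j ≫ pullback.fst (T.obj j).hom f
              naturality := fun i j h => by
                refine (Category.id_comp _).trans ?_
                refine Eq.trans ?_ (Category.assoc _ _ _).symm
                refine (congrArg (· ≫ pullback.fst (T.obj j).hom f) (c.w h)).symm.trans ?_
                exact (Category.assoc _ _ _).trans (congrArg (c.π.app i ≫ ·) (bcMap_fst f (T.map h))) } }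
      refine pullback.lift (c.π.app j₀ ≫ pullback.snd (T.obj j₀).hom f) (hc.lift cT) ?_
      have h1 : hc.lift cT ≫ σ j₀ = c.π.app j₀ ≫ pullback.fst (T.obj j₀).hom f := hc.fac cT j₀
      rw [← hσ₀ j₀, ← Category.assoc (hc.lift cT), h1, Category.assoc, Category.assoc]
      exact congrArg (c.π.app j₀ ≫ ·) pullback.condition.symm
    · refine pullback.hom_ext ?_ ?_
      · rw [Category.assoc]
        refine (congrArg (_ ≫ ·) (sigBar_fst f s R (T.obj j) (v j))).trans ?_
        rw [← Category.assoc, pullback.lift_snd, hsig]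
        exact hc.fac _ j
      · rw [Category.assoc]
        refine (congrArg (_ ≫ ·) (sigBar_hom f s R (T.obj j) (v j))).trans ?_
        rw [pullback.lift_fst]
        obtain ⟨k, h0, hj⟩ := exists_ge_ge (Classical.arbitrary α) j.unop
        have e : ∀ (i : αᵒᵖ) (h : (op k : αᵒᵖ) ⟶ i),
            c.π.app i ≫ pullback.snd (T.obj i).hom f = c.π.app (op k) ≫ pullback.snd (T.obj (op k)).hom f := by
          intro i h
          rw [← c.w h]
          exact (Category.assoc _ _ _).trans (congrArg (c.π.app (op k) ≫ ·) (bcMap_snd f (T.map h)))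
        exact (e _ (homOfLE h0).op).trans (e j (homOfLE hj).op).symm
    · refine pullback.hom_ext ?_ ?_
      · rw [pullback.lift_fst, ← hm, Category.assoc]
        exact congrArg (m ≫ ·) (sigBar_hom f s R _ _).symm
      · rw [pullback.lift_snd]
        refine hc.hom_ext fun j => ?_
        rw [hc.fac]
        show (m ≫ pullback.snd f _) ≫ σ j = c.π.app j ≫ pullback.fst (T.obj j).hom f
        rw [← hm j, Category.assoc, Category.assoc, ← hsig j]
        exact congrArg (m ≫ ·) (sigBar_fst f s R _ _).symm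
  · obtain ⟨j, a, ha⟩ := hcof V w
    exact ⟨j, a, CategoryTheory.Over.OverMorphism.ext ((Category.assoc _ _ _).trans ha)⟩

theorem bijective_theta [QuasiCompact f] [QuasiSeparated f] (F : EtCoh.Ab X) :
    Function.Bijective (theta f s R F) := by
  obtain ⟨α, _, _, _, T, v, hv, haff, hqc, hqs, ⟨hlim⟩, hcof⟩ := exists_limit_data f s R
  let Ys : αᵒᵖ ⥤ Scheme.{u} := (T ⋙ EtCoh.bc f) ⋙ Scheme.Etale.forget X ⋙ CategoryTheory.Over.forget X
  let q : ∀ j : α, Ys.obj (op j) ⟶ X := fun j => ((EtCoh.bc f).obj (T.obj (op j))).hom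
  have hq : ∀ ⦃i j : α⦄ (h : i ≤ j), Ys.map (homOfLE h).op ≫ q i = q j := fun i j h =>
    MorphismProperty.Over.w ((EtCoh.bc f).map (T.map (homOfLE h).op))
  let c : Cone Ys := Cone.mk (pullback f (Hens2.specOf S s R))
    { app := fun j => sigBar f s R (T.obj j) (v j)
      naturality := fun i j h => (Category.id_comp _).trans
        ((congrArg (sigBar f s R (T.obj j)) (hv h)).symm.trans (sigBar_map f s R (T.map h) (v i)).symm) }
  haveI : ∀ ⦃a b : αᵒᵖ⦄ (h : a ⟶ b), IsAffineHom (Ys.map h) := haff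
  haveI : ∀ a, CompactSpace ↥(Ys.obj a) := hqc
  haveI : ∀ a, QuasiSeparatedSpace ↥(Ys.obj a) := hqs
  haveI : ∀ ⦃a b : αᵒᵖ⦄ (h : a ⟶ b), PreservesFiniteLimits (EtCoh.pull (Ys.map h)) := fun a b h => inferInstance
  haveI : ∀ a, PreservesFiniteLimits (EtCoh.pull (c.π.app a)) := fun a => inferInstance
  have key := base_limit c q hq (gproj f s R) (fun j => sigBar_hom f s R (T.obj (op j)) (v (op j))) F hlim 0
  constructor
  · refine (injective_iff_map_eq_zero (theta f s R F).hom).mpr fun x hx => ?_
    obtain ⟨V, w, y, rfl⟩ := (geoPt s R).toPresheafFiber_jointly_surjective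
      (P := ((EtCoh.push f).obj F).obj) x
    obtain ⟨j, a, ha⟩ := hcof V w
    subst ha
    let y' : F.obj.obj (op ((EtCoh.bc f).obj (T.obj j))) := ((EtCoh.push f).obj F).obj.map a.op y
    have hcls := ConcreteCategory.congr_hom
      ((geoPt s R).toPresheafFiber_w a (v j) ((EtCoh.push f).obj F).obj) y
    rw [← hcls] at hx ⊢
    have h0 : ev (gproj f s R) ((EtCoh.bc f).obj (T.obj j)) (sigBar f s R (T.obj j) (v j))
        (sigBar_hom f s R _ _) F y' = 0 :=
      ((ConcreteCategory.congr_hom (theta_germ f s R F (T.obj j) (v j)) y').symm).trans hx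
    obtain ⟨g1, hg1⟩ := exists_secOf (ev (q j.unop) ((EtCoh.bc f).obj (T.obj j)) (𝟙 _) (Category.id_comp _) F y')
    obtain ⟨k, hk, hzero⟩ := key.2 j.unop (Ext.mk₀ g1) (by
      rw [show hPull _ _ 0 (Ext.mk₀ g1) = _ from extPull_mk₀ _ _ _ g1]
      refine Eq.trans (congrArg (fun m => Ext.mk₀ m) (secOf_injective (g' := (0 : EtCoh.const c.pt ℤ ⟶ (EtCoh.pull (gproj f s R)).obj F)) ?_)) (Ext.mk₀_zero _ _)
      refine Eq.trans (secOf_pull (f := c.π.app (op j.unop)) ((EtCoh.pull (q j.unop)).obj F) _ g1) ?_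
      rw [hg1]
      refine Eq.trans ?_ secOf_zero.symm
      refine (ev_comp (c.π.app j) (q j.unop) (gproj f s R) (sigBar_hom f s R (T.obj j) (v j)) ((EtCoh.bc f).obj (T.obj j)) (𝟙 _) (Category.id_comp _) F y').trans ?_
      refine Eq.trans ?_ h0
      congr 2)
    have hzero' : secOf ((EtCore.pullConst (Ys.map (homOfLE hk).op) ℤ).inv ≫
        (EtCoh.pull (Ys.map (homOfLE hk).op)).map g1 ≫
          via (Ys.map (homOfLE hk).op) (q j.unop) (q k) (hq hk) F) = 0 := by
      have h1 : (EtCore.pullConst (Ys.map (homOfLE hk).op) ℤ).inv ≫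
          (EtCoh.pull (Ys.map (homOfLE hk).op)).map g1 ≫ 𝟙 _ = 0 := by
        refine (Ext.mk₀_bijective _ _).1 ?_
        rw [Ext.mk₀_zero]
        exact (extPull_mk₀ (EtCoh.pull (Ys.map (homOfLE hk).op)) _ _ g1).symm.trans hzero
      rw [Category.comp_id] at h1
      rw [← Category.assoc, h1, zero_comp, secOf_zero]
    replace hzero' := (secOf_pull (f := Ys.map (homOfLE hk).op) ((EtCoh.pull (q j.unop)).obj F) _ g1).symm.trans hzero'
    rw [hg1] at hzero'
    have hev := (ev_comp (Ys.map (homOfLE hk).op) (q j.unop) (q k) (hq hk) ((EtCoh.bc f).obj (T.obj j))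
      (𝟙 _) (Category.id_comp _) F y').symm.trans hzero'
    let a' : T.obj (op k) ⟶ T.obj j := T.map (homOfLE hk).op
    have h2 : F.obj.map ((EtCoh.bc f).map a').op y' = 0 := by
      refine (bijective_ev_self ((EtCoh.bc f).obj (T.obj (op k))) F).1 ?_
      rw [map_zero, ← hev]
      refine (ConcreteCategory.congr_hom (ev_map _ ((EtCoh.bc f).map a') (𝟙 _) (Category.id_comp _)
        (((EtCoh.bc f).map a').left ≫ 𝟙 _) (by rw [Category.comp_id]; exact MorphismProperty.Over.w _)
        (by rw [Category.id_comp, Category.comp_id]) F) y').trans ?_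
      rfl
    have hcls' := ConcreteCategory.congr_hom
      ((geoPt s R).toPresheafFiber_w a' (v (op k)) ((EtCoh.push f).obj F).obj) y'
    rw [hv] at hcls'
    refine hcls'.symm.trans ?_
    show (geoPt s R).toPresheafFiber (T.obj (op k)) (v (op k)) ((EtCoh.push f).obj F).obj (F.obj.map ((EtCoh.bc f).map a').op y') = 0
    rw [h2]
    exact map_zero _
  · intro t
    obtain ⟨g0, hg0⟩ := exists_secOf t
    obtain ⟨j, ξj, hξ⟩ := key.1 (Ext.mk₀ g0)
    obtain ⟨g1, rfl⟩ := exists_eq_mk₀ ξj
    rw [show hPull _ _ 0 (Ext.mk₀ g1) = _ from extPull_mk₀ _ _ _ g1] at hξ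
    have hgg := (Ext.mk₀_bijective _ _).1 hξ
    obtain ⟨y, hy⟩ := (bijective_ev_self ((EtCoh.bc f).obj (T.obj (op j))) F).2 (secOf g1)
    refine ⟨(geoPt s R).toPresheafFiber (T.obj (op j)) (v (op j)) ((EtCoh.push f).obj F).obj y, ?_⟩
    refine (ConcreteCategory.congr_hom (theta_germ f s R F (T.obj (op j)) (v (op j))) y).trans ?_
    refine Eq.trans ?_ ((congrArg secOf hgg).trans hg0)
    refine Eq.trans ?_ (secOf_pull (f := c.π.app (op j)) ((EtCoh.pull (q j)).obj F) _ g1).symm
    rw [← hy]
    refine Eq.trans ?_ (ev_comp (c.π.app (op j)) (q j) (gproj f s R)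
      (sigBar_hom f s R (T.obj (op j)) (v (op j))) _ _ (Category.id_comp _) F y).symm
    congr 2

end Groth.Agent.EtStalkLib
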