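import Groth.Agent.Et18.Restr
import Groth.Agent.Et18.JCont
import Groth.Agent.EtLimit.HMaps
import Groth.Agent.EtLimit.Bridge
import Groth.Agent.EtLimit.Via

/-!
# Values of sections in inverse images
-/

set_option autoImplicit false
set_option linter.all false
set_option backward.isDefEq.respectTransparency.types false
set_option backward.isDefEq.respectTransparency false
set_option backward.defeqAttrib.useBackward true

universe u

open CategoryTheory Limits AlgebraicGeometry Opposite
open Groth.Agent.EtLimit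

namespace Groth.Agent.EtStalkLib

variable {X X' X'' : Scheme.{u}}

/-- The section of a base change given by a lift. -/
noncomputable def secTo (r : X' ⟶ X) (U : X.Etale) (σ : X' ⟶ U.left) (hσ : σ ≫ U.hom = r) :
    EtCoh.top X' ⟶ (EtCoh.bc r).obj U :=
  MorphismProperty.Over.homMk (pullback.lift σ (𝟙 X') (hσ.trans (Category.id_comp r).symm))
    (pullback.lift_snd _ _ _) trivial

theorem secTo_fst (r : X' ⟶ X) (U : X.Etale) (σ : X' ⟶ U.left) (hσ : σ ≫ U.hom = r) :
    (secTo r U σ hσ).left ≫ pullback.fst U.hom r = σ :=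
  pullback.lift_fst _ _ _

theorem hom_ext_bc {r : X' ⟶ X} {U : X.Etale} {W : X'.Etale} {a b : W ⟶ (EtCoh.bc r).obj U}
    (h : a.left ≫ pullback.fst U.hom r = b.left ≫ pullback.fst U.hom r) : a = b := by
  apply MorphismProperty.Over.Hom.ext
  refine pullback.hom_ext h ?_
  exact (MorphismProperty.Over.w a).trans (MorphismProperty.Over.w b).symm

/-- The value of a section along a lift. -/
noncomputable def ev (r : X' ⟶ X) (U : X.Etale) (σ : X' ⟶ U.left) (hσ : σ ≫ U.hom = r) (F : EtCoh.Ab X) :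
    F.obj.obj (op U) ⟶ ((EtCoh.pull r).obj F).obj.obj (op (EtCoh.top X')) :=
  unitSect r F U ≫ ((EtCoh.pull r).obj F).obj.map (secTo r U σ hσ).op

theorem ev_map (r : X' ⟶ X) {U V : X.Etale} (a : U ⟶ V) (σ : X' ⟶ U.left) (hσ : σ ≫ U.hom = r)
    (τ : X' ⟶ V.left) (hτ : τ ≫ V.hom = r) (h : σ ≫ a.left = τ) (F : EtCoh.Ab X) :
    F.obj.map a.op ≫ ev r U σ hσ F = ev r V τ hτ F := by
  rw [ev, ev, ← Category.assoc]
  have hn : F.obj.map a.op ≫ unitSect r F U =
      unitSect r F V ≫ ((EtCoh.pull r).obj F).obj.map ((EtCoh.bc r).map a).op :=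
    ((EtCoh.pullPushAdj r).homEquiv F _ (𝟙 _)).hom.naturality a.op
  rw [hn, Category.assoc, ← Functor.map_comp, ← op_comp]
  congr 3
  refine hom_ext_bc ?_
  refine (Category.assoc _ _ _).trans ?_
  rw [bcMap_fst, ← Category.assoc, secTo_fst, secTo_fst, h]

theorem ev_nat (r : X' ⟶ X) (U : X.Etale) (σ : X' ⟶ U.left) (hσ : σ ≫ U.hom = r) {F G : EtCoh.Ab X}
    (φ : F ⟶ G) :
    ev r U σ hσ F ≫ ((EtCoh.pull r).map φ).hom.app (op (EtCoh.top X')) =
      φ.hom.app (op U) ≫ ev r U σ hσ G := by
  ext x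
  show ((EtCoh.pull r).map φ).hom.app _ (((EtCoh.pull r).obj F).obj.map (secTo r U σ hσ).op (unitSect r F U x)) =
    ((EtCoh.pull r).obj G).obj.map (secTo r U σ hσ).op (unitSect r G U (φ.hom.app (op U) x))
  refine (NatTrans.naturality_apply ((EtCoh.pull r).map φ).hom (secTo r U σ hσ).op _).trans (congrArg _ ?_)
  refine (adjSect_comp r (𝟙 _) ((EtCoh.pull r).map φ) U x).symm.trans ?_
  refine Eq.trans ?_ (adjSect_pull_map r φ (𝟙 _) U x)
  rw [Category.id_comp, Category.comp_id]

theorem ev_comp (p : X'' ⟶ X') (r : X' ⟶ X) (r₀ : X'' ⟶ X) (w : p ≫ r = r₀) (U : X.Etale)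
    (σ : X' ⟶ U.left) (hσ : σ ≫ U.hom = r) (F : EtCoh.Ab X) (x : F.obj.obj (op U)) :
    ((EtCoh.pull r₀).obj F).obj.map (EtCore.bcTopIso p).inv.op
        (adjSect p (via p r r₀ w F) (EtCoh.top X') (ev r U σ hσ F x)) =
      ev r₀ U (p ≫ σ) (by rw [Category.assoc, hσ, w]) F x := by
  let M := (EtCoh.pull r₀).obj F
  have h1 : adjSect p (via p r r₀ w F) (EtCoh.top X') (ev r U σ hσ F x) =
      M.obj.map ((EtCoh.bc p).map (secTo r U σ hσ)).op
        (adjSect p (via p r r₀ w F) ((EtCoh.bc r).obj U) (unitSect r F U x)) :=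
    NatTrans.naturality_apply ((EtCoh.pullPushAdj p).homEquiv _ _ (via p r r₀ w F)).hom
      (secTo r U σ hσ).op (unitSect r F U x)
  have h2 : unitSect r₀ F U x = M.obj.map (bcSplit w.symm U).op
      (adjSect p (via p r r₀ w F) ((EtCoh.bc r).obj U) (unitSect r F U x)) := by
    refine Eq.trans ?_ (adjSect_split p r r₀ w (via p r r₀ w F) U x)
    rw [split_via]
  show M.obj.map _ (adjSect p _ _ _) = M.obj.map _ (unitSect r₀ F U x)
  rw [h1, h2]
  have hmm : ∀ {A B C : X''.Etale} (b : A ⟶ B) (a : B ⟶ C) (y : M.obj.obj (op C)),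
      M.obj.map b.op (M.obj.map a.op y) = M.obj.map (b ≫ a).op y := fun b a y => by
    rw [op_comp, Functor.map_comp, ConcreteCategory.comp_apply]
  refine (hmm _ _ _).trans (Eq.trans ?_ (hmm _ _ _).symm)
  refine congrArg (fun m : EtCoh.top X'' ⟶ _ => M.obj.map m.op _) ?_
  apply MorphismProperty.Over.Hom.ext
  have hsnd : ∀ {W : X''.Etale} (m : W ⟶ (EtCoh.bc p).obj ((EtCoh.bc r).obj U)),
      m.left ≫ pullback.snd ((EtCoh.bc r).obj U).hom p = W.hom := fun m => MorphismProperty.Over.w m
  refine pullback.hom_ext (pullback.hom_ext ?_ ?_) ((hsnd _).trans (hsnd _).symm)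
  · show (((EtCore.bcTopIso p).inv.left ≫ ((EtCoh.bc p).map (secTo r U σ hσ)).left) ≫ _) ≫ _ =
      (((secTo r₀ U (p ≫ σ) _).left ≫ (bcSplit w.symm U).left) ≫ _) ≫ _
    simp only [Category.assoc]
    rw [bcSplit_fst_fst w.symm U, secTo_fst, reassoc_of% (bcMap_fst p (secTo r U σ hσ))]
    refine Eq.trans ?_ (congrArg (· ≫ σ) (?_ : (EtCore.bcTopIso p).inv.left ≫ pullback.fst (EtCoh.top X').hom p = p))
    · rw [Category.assoc]; exact congrArg (fun m => _ ≫ _ ≫ m) (secTo_fst r U σ hσ)
    · have h3 := congrArg (fun m => (EtCore.bcTopIso p).inv.left ≫ m) (pullback.condition (f := (EtCoh.top X').hom) (g := p))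
      refine ((congrArg ((EtCore.bcTopIso p).inv.left ≫ ·) (Category.comp_id _)).symm.trans h3).trans ?_
      exact (Category.assoc _ _ _).symm.trans
        ((congrArg (· ≫ p) (MorphismProperty.Over.w (EtCore.bcTopIso p).inv)).trans (Category.id_comp p))
  · show (((EtCore.bcTopIso p).inv.left ≫ ((EtCoh.bc p).map (secTo r U σ hσ)).left) ≫ _) ≫ _ =
      (((secTo r₀ U (p ≫ σ) _).left ≫ (bcSplit w.symm U).left) ≫ _) ≫ _
    simp only [Category.assoc]
    rw [bcSplit_fst_snd w.symm U, reassoc_of% (bcMap_fst p (secTo r U σ hσ))]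
    have h4 : (secTo r U σ hσ).left ≫ pullback.snd U.hom r = 𝟙 X' := MorphismProperty.Over.w (secTo r U σ hσ)
    have h5 : (secTo r₀ U (p ≫ σ) (by rw [Category.assoc, hσ, w])).left ≫ pullback.snd U.hom r₀ = 𝟙 X'' :=
      MorphismProperty.Over.w (secTo r₀ U (p ≫ σ) (by rw [Category.assoc, hσ, w]))
    rw [h4, reassoc_of% h5]
    refine (congrArg (fun m => _ ≫ m) (Category.comp_id _)).trans ?_
    have h3 := congrArg (fun m => (EtCore.bcTopIso p).inv.left ≫ m) (pullback.condition (f := (EtCoh.top X').hom) (g := p))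
    refine ((congrArg ((EtCore.bcTopIso p).inv.left ≫ ·) (Category.comp_id _)).symm.trans h3).trans ?_
    exact (Category.assoc _ _ _).symm.trans
      (congrArg (· ≫ p) (MorphismProperty.Over.w (EtCore.bcTopIso p).inv))

/-- Sections over an etale scheme are the global sections of the inverse image. -/
theorem bijective_ev_self (U : X.Etale) (F : EtCoh.Ab X) :
    Function.Bijective (ev U.hom U (𝟙 U.left) (Category.id_comp _) F) := by
  haveI : Etale U.hom := U.prop
  haveI := Et18.jCont U.hom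
  let e := (Et18.pullRestrIso U.hom).hom.app F
  haveI : IsIso (e.hom.app (op (EtCoh.top U.left))) :=
    inferInstanceAs (IsIso (((sheafToPresheaf _ _).mapIso ((Et18.pullRestrIso U.hom).app F)).app (op (EtCoh.top U.left))).hom)
  let s : EtCoh.top U.left ⟶ (EtCoh.bc U.hom).obj U := secTo U.hom U (𝟙 _) (Category.id_comp _)
  let m : (EtShriek.compEtale U.hom).obj (EtCoh.top U.left) ⟶ U :=
    (EtShriek.compEtale U.hom).map s ≫ (Et18.compBcAdj U.hom).counit.app U
  have hm : IsIso m := by
    haveI : IsIso m.left := by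
      have : m.left = 𝟙 U.left := by
        show s.left ≫ ((Et18.compBcAdj U.hom).counit.app U).left = _
        have hc : ((Et18.compBcAdj U.hom).counit.app U).left = pullback.fst U.hom U.hom := by
          simp [Et18.compBcAdj, MorphismProperty.Over.mapPullbackAdj]
        rw [hc]
        exact secTo_fst _ _ _ _
      exact this.symm ▸ (IsIso.id U.left)
    have : IsIso ((Scheme.Etale.forget X ⋙ Over.forget X).map m) := this
    exact isIso_of_reflects_iso _ (Scheme.Etale.forget X ⋙ Over.forget X)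
  have key : ∀ x, e.hom.app (op (EtCoh.top U.left)) (ev U.hom U (𝟙 _) (Category.id_comp _) F x) = F.obj.map m.op x := by
    intro x
    refine (NatTrans.naturality_apply e.hom s.op (unitSect U.hom F U x)).trans ?_
    have h1 : (e.hom.app (op ((EtCoh.bc U.hom).obj U))) (unitSect U.hom F U x) =
        ((Et18.restrPushAdj U.hom).unit.app F).hom.app (op U) x := by
      refine (adjSect_comp U.hom (𝟙 _) e U x).symm.trans ?_
      rw [Category.id_comp]
      refine congrArg (fun q : F ⟶ (EtCoh.push U.hom).obj ((EtShriek.restrAlong U.hom).obj F) => q.hom.app (op U) x) ((Adjunction.homEquiv_unit _ _ _ _).trans ?_)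
      exact Adjunction.unit_leftAdjointUniq_hom_app (EtCoh.pullPushAdj U.hom) (Et18.restrPushAdj U.hom) F
    rw [h1]
    show F.obj.map ((EtShriek.compEtale U.hom).map s).op (F.obj.map ((Et18.compBcAdj U.hom).counit.app U).op x) = _
    exact (ConcreteCategory.congr_hom (F.obj.map_comp _ _) x).symm
  have h2 : Function.Bijective (F.obj.map m.op) := by
    rw [← ConcreteCategory.isIso_iff_bijective]; infer_instance
  have he := ConcreteCategory.bijective_of_isIso (e.hom.app (op (EtCoh.top U.left)))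
  refine ⟨fun a b hab => h2.1 ((key a).symm.trans ((congrArg _ hab).trans (key b))), fun t => ?_⟩
  obtain ⟨x, hx⟩ := h2.2 (e.hom.app (op (EtCoh.top U.left)) t)
  exact ⟨x, he.1 ((key x).trans hx)⟩

end Groth.Agent.EtStalkLib
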